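import Mathlib.RingTheory.Polynomial.Resultant.Basic
import Mathlib.FieldTheory.Finite.Basic
import Mathlib.SetTheory.Cardinal.Finite

set_option linter.unusedSectionVars false
set_option linter.unusedVariables false
set_option linter.unusedSimpArgs false
set_option autoImplicit false
set_option linter.style.haveILetI false
set_option maxHeartbeats 400000

/-!
# Counting pairs of binary forms with non-vanishing resultant: basic API

`pv k v` is the polynomial `∑ i : Fin k, C (v i) * X ^ i` attached to a coefficient vector.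
-/

namespace Groth.Agent.Helper6.ResCount

open Polynomial

variable {F : Type*} [Field F]

/-- polynomial attached to a coefficient vector -/
noncomputable def pv (k : ℕ) (v : Fin k → F) : F[X] :=
  ∑ i : Fin k, C (v i) * X ^ (i : ℕ)

lemma pv_coeff (k : ℕ) (v : Fin k → F) (i : ℕ) :
    (pv k v).coeff i = if h : i < k then v ⟨i, h⟩ else 0 := by
  unfold pv
  rw [finsetSum_coeff]
  simp only [coeff_C_mul, coeff_X_pow]
  split_ifs with h
  · rw [Finset.sum_eq_single (⟨i, h⟩ : Fin k)]
    · simp
    · intro b _ hb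
      have : i ≠ (b : ℕ) := fun e => hb (Fin.ext e.symm)
      simp [this]
    · intro h'; exact absurd (Finset.mem_univ _) h'
  · apply Finset.sum_eq_zero
    intro b _
    have : i ≠ (b : ℕ) := fun e => h (e ▸ b.2)
    simp [this]

lemma pv_coeff_fin (k : ℕ) (v : Fin k → F) (i : Fin k) : (pv k v).coeff (i : ℕ) = v i := by
  rw [pv_coeff, dif_pos i.2]

lemma pv_coeff_of_le (k : ℕ) (v : Fin k → F) (i : ℕ) (h : k ≤ i) : (pv k v).coeff i = 0 := by
  rw [pv_coeff, dif_neg (by omega)]

lemma pv_natDegree_le (k : ℕ) (v : Fin (k + 1) → F) : (pv (k + 1) v).natDegree ≤ k := by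
  rw [natDegree_le_iff_coeff_eq_zero]
  intro N hN
  exact pv_coeff_of_le _ _ _ (by omega)

lemma pv_add (k : ℕ) (v w : Fin k → F) : pv k (v + w) = pv k v + pv k w := by
  unfold pv
  rw [← Finset.sum_add_distrib]
  refine Finset.sum_congr rfl fun i _ => ?_
  rw [Pi.add_apply, C_add, add_mul]

lemma pv_sub (k : ℕ) (v w : Fin k → F) : pv k (v - w) = pv k v - pv k w := by
  unfold pv
  rw [← Finset.sum_sub_distrib]
  refine Finset.sum_congr rfl fun i _ => ?_
  rw [Pi.sub_apply, C_sub, sub_mul]

lemma pv_zero (k : ℕ) : pv k (0 : Fin k → F) = 0 := by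
  unfold pv
  simp

lemma pv_smul (k : ℕ) (r : F) (v : Fin k → F) : pv k (r • v) = C r * pv k v := by
  unfold pv
  rw [Finset.mul_sum]
  refine Finset.sum_congr rfl fun i _ => ?_
  rw [Pi.smul_apply, smul_eq_mul, C_mul, mul_assoc]

lemma pv_of_coeff (k : ℕ) (p : F[X]) (hp : ∀ i, k ≤ i → p.coeff i = 0) :
    pv k (fun i => p.coeff (i : ℕ)) = p := by
  ext i
  rw [pv_coeff]
  split_ifs with h
  · rfl
  · exact (hp i (by omega)).symm

lemma pv_snoc (k : ℕ) (v : Fin k → F) (t : F) :
    pv (k + 1) (Fin.snoc v t : Fin (k + 1) → F) = pv k v + C t * X ^ k := by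
  unfold pv
  rw [Fin.sum_univ_castSucc]
  congr 1
  · refine Finset.sum_congr rfl fun i _ => ?_
    rw [Fin.snoc_castSucc]; rfl
  · rw [Fin.snoc_last]; rfl

lemma pv_cons (k : ℕ) (v : Fin k → F) (r : F) :
    pv (k + 1) (Fin.cons r v : Fin (k + 1) → F) = C r + X * pv k v := by
  unfold pv
  rw [Fin.sum_univ_succ, Finset.mul_sum]
  congr 1
  · rw [Fin.cons_zero]; simp
  · refine Finset.sum_congr rfl fun i _ => ?_
    rw [Fin.cons_succ, Fin.val_succ, pow_succ]
    ring

lemma pv_eval_cons (k : ℕ) (v : Fin k → F) (r s : F) :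
    (pv (k + 1) (Fin.cons r v : Fin (k + 1) → F)).eval s = r + s * (pv k v).eval s := by
  rw [pv_cons]; simp

end Groth.Agent.Helper6.ResCount
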