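import Groth.Agent.Lib.Helper6.ResCount.Count

set_option linter.unusedSectionVars false
set_option linter.unusedVariables false
set_option linter.unusedSimpArgs false
set_option autoImplicit false
set_option linter.style.haveILetI false
set_option maxHeartbeats 400000

/-!
# Counting pairs of binary forms with non-vanishing resultant: the count for a fixed quadric
-/

namespace Groth.Agent.Helper6.ResCount

open Polynomial

variable {F : Type*} [Field F]

lemma pv3_natDegree_le (f : Fin 3 → F) : (pv 3 f).natDegree ≤ 2 := pv_natDegree_le 2 f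

lemma pv3_coeff_two (f : Fin 3 → F) : (pv 3 f).coeff 2 = f 2 := pv_coeff_fin 3 f 2

/-- reduction of the top coefficient of `g` modulo a quadric with invertible leading coefficient -/
lemma res_snoc (f : Fin 3 → F) (hc : f 2 ≠ 0) (n : ℕ) (hn : 1 ≤ n) (t : F) :
    ∃ w : Fin (n + 1) → F, ∀ g' : Fin (n + 1) → F,
      resultant (pv 3 f) (pv (n + 2) (Fin.snoc (α := fun _ => F) g' t)) 2 (n + 1) =
        f 2 * resultant (pv 3 f) (pv (n + 1) (g' - w)) 2 n := by
  obtain ⟨k, rfl⟩ : ∃ k, n = k + 1 := ⟨n - 1, by omega⟩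
  set pf := pv 3 f with hpf
  set P : F[X] := C (t / f 2) * X ^ k with hP
  set W : F[X] := pf * P - C t * X ^ (k + 2) with hW
  have hWc : ∀ i, k + 1 + 1 ≤ i → W.coeff i = 0 := by
    intro i hi
    have e1 : pf * P = C (t / f 2) * pf * X ^ k := by rw [hP]; ring
    rw [hW, coeff_sub, e1, coeff_mul_X_pow', if_pos (by omega), coeff_C_mul, coeff_C_mul,
      coeff_X_pow]
    rcases Nat.lt_or_ge (k + 2) i with h | h
    · rw [pv_coeff_of_le 3 f _ (by omega), if_neg (by omega)]; simp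
    · have hi' : i = k + 2 := by omega
      subst hi'
      rw [show k + 2 - k = 2 by omega, pv3_coeff_two, if_pos rfl, div_mul_cancel₀ _ hc]; simp
  refine ⟨fun i => W.coeff (i : ℕ), fun g' => ?_⟩
  have hw : pv (k + 1 + 1) (fun i => W.coeff (i : ℕ)) = W := pv_of_coeff _ W hWc
  have e2 : pv (k + 1 + 2) (Fin.snoc (α := fun _ => F) g' t) =
      pv (k + 1 + 1) (g' - (fun i => W.coeff (i : ℕ) : Fin (k + 1 + 1) → F)) + pf * P := by
    rw [pv_snoc, pv_sub, hw, hW]; ring
  rw [e2, resultant_add_mul_right pf _ P 2 (k + 1 + 1) ?_ (pv3_natDegree_le f),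
    resultant_add_right_deg pf _ 2 (k + 1) 1 (pv_natDegree_le (k + 1) _), pow_one,
    pv3_coeff_two]
  calc P.natDegree + 2 ≤ k + 2 := by
        have : P.natDegree ≤ k := by
          rw [hP]; exact (natDegree_C_mul_le _ _).trans (natDegree_X_pow_le k)
        omega
    _ = k + 1 + 1 := by ring

variable [Fintype F] [DecidableEq F]

/-- number of `g` of formal degree `n` with non-vanishing resultant against `f` -/
noncomputable def cnt (n : ℕ) (f : Fin 3 → F) : ℕ :=
  ∑ g : Fin (n + 1) → F, if resultant (pv 3 f) (pv (n + 1) g) 2 n ≠ 0 then 1 else 0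

lemma cnt_succ_of_lead_ne (f : Fin 3 → F) (hc : f 2 ≠ 0) (n : ℕ) (hn : 1 ≤ n) :
    cnt (n + 1) f = Fintype.card F * cnt n f := by
  unfold cnt
  rw [sum_snoc]
  have : ∀ t : F, (∑ g' : Fin (n + 1) → F,
      if resultant (pv 3 f) (pv (n + 1 + 1) (Fin.snoc (α := fun _ => F) g' t)) 2 (n + 1) ≠ 0
        then 1 else 0) =
      ∑ g : Fin (n + 1) → F, if resultant (pv 3 f) (pv (n + 1) g) 2 n ≠ 0 then 1 else 0 := by
    intro t
    obtain ⟨w, hw⟩ := res_snoc f hc n hn t
    rw [← (Equiv.subRight w).sum_comp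
      (fun g : Fin (n + 1) → F => if resultant (pv 3 f) (pv (n + 1) g) 2 n ≠ 0 then 1 else 0)]
    refine Finset.sum_congr rfl fun g' _ => ?_
    rw [hw g']
    simp only [ne_eq, mul_eq_zero, hc, false_or]
    rfl
  rw [Finset.sum_congr rfl fun t _ => this t, Finset.sum_const, Finset.card_univ, smul_eq_mul]

lemma cnt_of_lead_ne (f : Fin 3 → F) (hc : f 2 ≠ 0) (n : ℕ) :
    cnt (n + 1) f = Fintype.card F ^ n * cnt 1 f := by
  induction n with
  | zero => simp
  | succ n ih =>
    rw [cnt_succ_of_lead_ne f hc (n + 1) (by omega), ih, pow_succ]; ring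

omit [Fintype F] [DecidableEq F] in
lemma pv3_eq (f : Fin 3 → F) : pv 3 f = C (f 0) + C (f 1) * X + C (f 2) * X ^ 2 := by
  unfold pv
  rw [Fin.sum_univ_three]
  simp

omit [Fintype F] [DecidableEq F] in
/-- the resultant against a quadric with a root at infinity and a finite root -/
lemma res_of_lead_zero (f : Fin 3 → F) (h2 : f 2 = 0) (h1 : f 1 ≠ 0) (k : ℕ) (G : F[X])
    (hG : G.natDegree ≤ k + 1) :
    resultant (pv 3 f) G 2 (k + 1) =
      (-1) ^ (k + 1) * G.coeff (k + 1) * (f 1 ^ (k + 1) * G.eval (-(f 0 / f 1))) := by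
  have hpf : pv 3 f = C (f 1) * (X + C (f 0 / f 1)) := by
    rw [pv3_eq, h2, mul_add, ← C_mul, mul_div_cancel₀ _ h1]
    simp
    ring
  have hdeg : (pv 3 f).natDegree ≤ 1 := by
    rw [hpf]
    refine (natDegree_C_mul_le _ _).trans ?_
    exact (natDegree_X_add_C _).le
  have h3 := resultant_succ_left_deg (pv 3 f) G 1 (k + 1) hdeg
  rw [show (1 + 1 : ℕ) = 2 from rfl] at h3
  rw [h3, hpf, resultant_C_mul_left, resultant_X_add_C_left G (k + 1) _ hG]

lemma cnt_of_lead_zero (f : Fin 3 → F) (h2 : f 2 = 0) (h1 : f 1 ≠ 0) (k : ℕ) :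
    cnt (k + 1) f = (Fintype.card F - 1) * ((Fintype.card F - 1) * Fintype.card F ^ k) := by
  unfold cnt
  rw [sum_cons, Finset.sum_comm]
  have key : ∀ h : Fin (k + 1) → F, (∑ r : F,
      if resultant (pv 3 f) (pv (k + 1 + 1) (Fin.cons (α := fun _ => F) r h)) 2 (k + 1) ≠ 0
        then 1 else 0) =
      if h (Fin.last k) ≠ 0 then (Fintype.card F - 1) else 0 := by
    intro h
    have e : ∀ r : F,
        resultant (pv 3 f) (pv (k + 1 + 1) (Fin.cons (α := fun _ => F) r h)) 2 (k + 1) ≠ 0 ↔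
          h (Fin.last k) ≠ 0 ∧ r + (-(f 0 / f 1)) * (pv (k + 1) h).eval (-(f 0 / f 1)) ≠ 0 := by
      intro r
      rw [res_of_lead_zero f h2 h1 k _ (pv_natDegree_le (k + 1) _), pv_eval_cons]
      have hc : (pv (k + 1 + 1) (Fin.cons (α := fun _ => F) r h)).coeff (k + 1) =
          h (Fin.last k) := by
        rw [pv_cons, coeff_add, coeff_C_succ, coeff_X_mul, zero_add]
        exact pv_coeff_fin (k + 1) h (Fin.last k)
      rw [hc]
      have hpow : ((-1 : F)) ^ (k + 1) ≠ 0 := pow_ne_zero _ (neg_ne_zero.mpr one_ne_zero)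
      have hpow' : (f 1) ^ (k + 1) ≠ 0 := pow_ne_zero _ h1
      simp only [ne_eq, mul_eq_zero, hpow, hpow', false_or, not_or]
    simp only [e]
    by_cases hl : h (Fin.last k) = 0
    · have hf : ∀ r : F, ¬ (h (Fin.last k) ≠ 0 ∧
          r + (-(f 0 / f 1)) * (pv (k + 1) h).eval (-(f 0 / f 1)) ≠ 0) := fun r hh => hh.1 hl
      simp only [hf, if_false]
      rw [if_neg (not_not.mpr hl)]
      exact Finset.sum_const_zero
    · have hf : ∀ r : F, (h (Fin.last k) ≠ 0 ∧
          r + (-(f 0 / f 1)) * (pv (k + 1) h).eval (-(f 0 / f 1)) ≠ 0) ↔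
          r + (-(f 0 / f 1)) * (pv (k + 1) h).eval (-(f 0 / f 1)) ≠ 0 :=
        fun r => and_iff_right hl
      simp only [hf]
      rw [if_pos hl]
      exact sum_add_ne _
  rw [Finset.sum_congr rfl fun h _ => key h]
  rw [← Finset.sum_filter, Finset.sum_const, smul_eq_mul, Finset.card_filter, sum_last_ne,
    mul_comm]

omit [Fintype F] [DecidableEq F] in
lemma res_of_const (f : Fin 3 → F) (h2 : f 2 = 0) (h1 : f 1 = 0) (n : ℕ) (G : F[X]) :
    resultant (pv 3 f) G 2 n = G.coeff n ^ 2 * f 0 ^ n := by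
  have hpf : pv 3 f = C (f 0) := by
    rw [pv3_eq, h2, h1]; simp
  rw [hpf, resultant_C_left, pow_mul]
  simp

lemma cnt_of_const (f : Fin 3 → F) (h2 : f 2 = 0) (h1 : f 1 = 0) (h0 : f 0 ≠ 0) (n : ℕ) :
    cnt n f = (Fintype.card F - 1) * Fintype.card F ^ n := by
  unfold cnt
  rw [← sum_last_ne]
  refine Finset.sum_congr rfl fun g _ => ?_
  rw [res_of_const f h2 h1]
  have hcl : (pv (n + 1) g).coeff n = g (Fin.last n) := pv_coeff_fin (n + 1) g (Fin.last n)
  rw [hcl]
  have : f 0 ^ n ≠ 0 := pow_ne_zero _ h0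
  simp only [ne_eq, mul_eq_zero, this, or_false, pow_eq_zero_iff, OfNat.ofNat_ne_zero,
    not_false_eq_true]

lemma cnt_zero (f : Fin 3 → F) (h2 : f 2 = 0) (h1 : f 1 = 0) (h0 : f 0 = 0) (n : ℕ) :
    cnt (n + 1) f = 0 := by
  unfold cnt
  refine Finset.sum_eq_zero fun g _ => ?_
  rw [res_of_const f h2 h1, h0]
  simp

/-- the count for forms of degree `n + 1` is `q ^ n` times the count for linear forms -/
lemma cnt_succ (f : Fin 3 → F) (n : ℕ) :
    cnt (n + 1) f = Fintype.card F ^ n * cnt 1 f := by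
  by_cases h2 : f 2 = 0
  · by_cases h1 : f 1 = 0
    · by_cases h0 : f 0 = 0
      · rw [cnt_zero f h2 h1 h0 n, cnt_zero f h2 h1 h0 0]; simp
      · rw [cnt_of_const f h2 h1 h0, cnt_of_const f h2 h1 h0]; ring
    · rw [cnt_of_lead_zero f h2 h1 n, cnt_of_lead_zero f h2 h1 0]; ring
  · exact cnt_of_lead_ne f h2 n

end Groth.Agent.Helper6.ResCount
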