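import Groth.Agent.Lib.Helper6.ResCount.Basic

set_option linter.unusedSectionVars false
set_option linter.unusedVariables false
set_option linter.unusedSimpArgs false
set_option autoImplicit false
set_option linter.style.haveILetI false
set_option maxHeartbeats 400000

/-!
# Counting pairs of binary forms with non-vanishing resultant: counting lemmas
-/

namespace Groth.Agent.Helper6.ResCount

open Polynomial

variable {F : Type*} [Field F] [Fintype F] [DecidableEq F]

lemma sum_snoc {M : Type*} [AddCommMonoid M] (k : ℕ) (φ : (Fin (k + 1) → F) → M) :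
    ∑ g, φ g = ∑ t : F, ∑ g' : Fin k → F, φ (Fin.snoc (α := fun _ => F) g' t) := by
  rw [← (Fin.snocEquiv (fun _ : Fin (k + 1) => F)).sum_comp, Fintype.sum_prod_type]
  rfl

lemma sum_cons {M : Type*} [AddCommMonoid M] (k : ℕ) (φ : (Fin (k + 1) → F) → M) :
    ∑ g, φ g = ∑ r : F, ∑ g' : Fin k → F, φ (Fin.cons (α := fun _ => F) r g') := by
  rw [← (Fin.consEquiv (fun _ : Fin (k + 1) => F)).sum_comp, Fintype.sum_prod_type]
  rfl

/-- the number of `r` with `r ≠ e` -/
lemma sum_ne (e : F) : (∑ r : F, if r ≠ e then 1 else 0) = Fintype.card F - 1 := by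
  rw [← Finset.card_filter, Finset.filter_ne', Finset.card_erase_of_mem (Finset.mem_univ _),
    Finset.card_univ]

lemma sum_add_ne (e : F) : (∑ r : F, if r + e ≠ 0 then 1 else 0) = Fintype.card F - 1 := by
  rw [← sum_ne (-e)]
  refine Finset.sum_congr rfl fun r _ => ?_
  have : r + e ≠ 0 ↔ r ≠ -e := by
    rw [Ne, Ne, add_eq_zero_iff_eq_neg]
  simp only [this]

lemma card_fun (k : ℕ) : Fintype.card (Fin k → F) = Fintype.card F ^ k := by
  rw [Fintype.card_fun, Fintype.card_fin]

/-- the number of vectors with non-zero last coordinate -/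
lemma sum_last_ne (k : ℕ) :
    (∑ h : Fin (k + 1) → F, if h (Fin.last k) ≠ 0 then 1 else 0) =
      (Fintype.card F - 1) * Fintype.card F ^ k := by
  rw [sum_snoc]
  have : ∀ t : F, (∑ g' : Fin k → F,
      if (Fin.snoc (α := fun _ => F) g' t : Fin (k + 1) → F) (Fin.last k) ≠ 0 then 1 else 0) =
      if t ≠ 0 then Fintype.card F ^ k else 0 := by
    intro t
    simp only [Fin.snoc_last]
    split_ifs with h
    · simp [card_fun]
    · simp
  rw [Finset.sum_congr rfl fun t _ => this t]
  rw [← Finset.sum_filter, Finset.sum_const, Finset.filter_ne', Finset.card_erase_of_mem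
    (Finset.mem_univ _), Finset.card_univ, smul_eq_mul]

/-- the number of polynomials (as coefficient vectors) not vanishing at `s` -/
lemma sum_eval_ne (k : ℕ) (s : F) :
    (∑ h : Fin (k + 1) → F, if (pv (k + 1) h).eval s ≠ 0 then 1 else 0) =
      (Fintype.card F - 1) * Fintype.card F ^ k := by
  rw [sum_cons, Finset.sum_comm]
  have : ∀ g' : Fin k → F, (∑ r : F,
      if (pv (k + 1) (Fin.cons (α := fun _ => F) r g')).eval s ≠ 0 then 1 else 0) =
      Fintype.card F - 1 := by
    intro g'
    simp only [pv_eval_cons]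
    exact sum_add_ne _
  rw [Finset.sum_congr rfl fun g' _ => this g']
  rw [Finset.sum_const, Finset.card_univ, card_fun, smul_eq_mul, mul_comm]

end Groth.Agent.Helper6.ResCount
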