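import Groth.Agent.Lib.Helper6.ResCount.Total

set_option linter.unusedSectionVars false
set_option linter.unusedVariables false
set_option linter.unusedSimpArgs false
set_option autoImplicit false
set_option linter.style.haveILetI false
set_option maxHeartbeats 400000

/-!
# Counting pairs of binary forms with non-vanishing resultant: final statement
-/

namespace Groth.Agent.Helper6.ResCount

open Polynomial

variable {F : Type*} [Field F] [Fintype F]

/-- the number of pairs (quadric, form of degree `n`) with non-vanishing resultant -/
theorem card_res_ne_zero (n : ℕ) (hn : 1 ≤ n) :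
    Nat.card {p : (Fin 3 → F) × (Fin (n + 1) → F) //
      resultant (pv 3 p.1) (pv (n + 1) p.2) 2 n ≠ 0} =
      Fintype.card F ^ (n + 4) - Fintype.card F ^ (n + 3) - Fintype.card F ^ (n + 2)
        + Fintype.card F ^ (n + 1) := by
  classical
  obtain ⟨k, rfl⟩ : ∃ k, n = k + 1 := ⟨n - 1, by omega⟩
  rw [Nat.card_eq_fintype_card, Fintype.card_subtype, Finset.card_filter,
    Fintype.sum_prod_type]
  rw [← arith k, ← sum_cnt k]
  rfl

end Groth.Agent.Helper6.ResCount
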