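import Groth.Agent.Lib.Helper6.ResCount.Final

set_option linter.unusedSectionVars false
set_option linter.unusedVariables false
set_option linter.unusedSimpArgs false
set_option autoImplicit false
set_option linter.style.haveILetI false
set_option maxHeartbeats 400000

/-!
# Counting pairs of binary forms with resultant one (odd degree)
-/

namespace Groth.Agent.Helper6.ResCount

open Polynomial

variable {F : Type*} [Field F]

/-- rescaling both coefficient vectors -/
def scaleEquiv (n : ℕ) (a b : F) (ha : a ≠ 0) (hb : b ≠ 0) :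
    (Fin 3 → F) × (Fin (n + 1) → F) ≃ (Fin 3 → F) × (Fin (n + 1) → F) where
  toFun p := (a • p.1, b • p.2)
  invFun p := (a⁻¹ • p.1, b⁻¹ • p.2)
  left_inv p := by
    simp [smul_smul, inv_mul_cancel₀ ha, inv_mul_cancel₀ hb]
  right_inv p := by
    simp [smul_smul, mul_inv_cancel₀ ha, mul_inv_cancel₀ hb]

/-- the resultant, as a function of the pair of coefficient vectors -/
noncomputable def R (n : ℕ) (p : (Fin 3 → F) × (Fin (n + 1) → F)) : F :=
  resultant (pv 3 p.1) (pv (n + 1) p.2) 2 n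

lemma R_scale (n : ℕ) (a b : F) (ha : a ≠ 0) (hb : b ≠ 0)
    (p : (Fin 3 → F) × (Fin (n + 1) → F)) :
    R n (scaleEquiv n a b ha hb p) = a ^ n * (b ^ 2 * R n p) := by
  unfold R scaleEquiv
  simp only [Equiv.coe_fn_mk]
  rw [pv_smul, pv_smul, resultant_C_mul_left, resultant_C_mul_right]

lemma R_scale_odd (k : ℕ) (r : F) (hr : r ≠ 0) (p : (Fin 3 → F) × (Fin (2 * k + 1 + 1) → F)) :
    R (2 * k + 1) (scaleEquiv (2 * k + 1) r (r ^ k)⁻¹ hr (inv_ne_zero (pow_ne_zero k hr)) p) =
      r * R (2 * k + 1) p := by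
  rw [R_scale]
  have : r ^ (2 * k + 1) * ((r ^ k)⁻¹ ^ 2) = r := by
    have h : r ^ k ≠ 0 := pow_ne_zero k hr
    field_simp
    ring
  rw [← mul_assoc, this]

variable [Fintype F] [DecidableEq F]

/-- all non-zero values of the resultant are taken equally often (odd degree) -/
lemma sum_R_eq (k : ℕ) (r : F) (hr : r ≠ 0) :
    (∑ p : (Fin 3 → F) × (Fin (2 * k + 1 + 1) → F), if R (2 * k + 1) p = r then 1 else 0) =
      ∑ p : (Fin 3 → F) × (Fin (2 * k + 1 + 1) → F), if R (2 * k + 1) p = 1 then 1 else 0 := by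
  rw [← (scaleEquiv (2 * k + 1) r (r ^ k)⁻¹ hr (inv_ne_zero (pow_ne_zero k hr))).sum_comp
    (fun p => if R (2 * k + 1) p = r then 1 else 0)]
  refine Finset.sum_congr rfl fun p _ => ?_
  rw [R_scale_odd]
  have : r * R (2 * k + 1) p = r ↔ R (2 * k + 1) p = 1 := by
    constructor
    · intro h
      have : r * R (2 * k + 1) p = r * 1 := by rw [h, mul_one]
      exact mul_left_cancel₀ hr this
    · intro h; rw [h, mul_one]
  simp only [this]

lemma sum_R_ne (k : ℕ) :
    (∑ p : (Fin 3 → F) × (Fin (2 * k + 1 + 1) → F), if R (2 * k + 1) p ≠ 0 then 1 else 0) =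
      (Fintype.card F - 1) *
        ∑ p : (Fin 3 → F) × (Fin (2 * k + 1 + 1) → F), if R (2 * k + 1) p = 1 then 1 else 0 := by
  have h1 : ∀ p : (Fin 3 → F) × (Fin (2 * k + 1 + 1) → F),
      (if R (2 * k + 1) p ≠ 0 then 1 else 0) =
        ∑ r ∈ (Finset.univ.erase (0 : F)), if R (2 * k + 1) p = r then 1 else 0 := by
    intro p
    rw [Finset.sum_ite_eq]
    simp
  rw [Finset.sum_congr rfl fun p _ => h1 p, Finset.sum_comm]
  rw [Finset.sum_congr rfl fun r hr => sum_R_eq k r (Finset.ne_of_mem_erase hr)]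
  rw [Finset.sum_const, Finset.card_erase_of_mem (Finset.mem_univ _), Finset.card_univ,
    smul_eq_mul]

omit [DecidableEq F] in
/-- the number of pairs (quadric, form of odd degree `n`) with resultant one -/
theorem card_res_eq_one (n : ℕ) (hn : Odd n) :
    Nat.card {p : (Fin 3 → F) × (Fin (n + 1) → F) //
      resultant (pv 3 p.1) (pv (n + 1) p.2) 2 n = 1} =
      Fintype.card F ^ (n + 3) - Fintype.card F ^ (n + 1) := by
  classical
  obtain ⟨k, rfl⟩ := hn
  have hN := card_res_ne_zero (F := F) (2 * k + 1) (by omega)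
  rw [Nat.card_eq_fintype_card, Fintype.card_subtype, Finset.card_filter] at hN ⊢
  have h2 := sum_R_ne (F := F) k
  unfold R at h2
  rw [h2] at hN
  set S := ∑ p : (Fin 3 → F) × (Fin (2 * k + 1 + 1) → F),
    if resultant (pv 3 p.1) (pv (2 * k + 1 + 1) p.2) 2 (2 * k + 1) = 1 then 1 else 0 with hS
  obtain ⟨m, hm⟩ : ∃ m, Fintype.card F = m + 2 := ⟨Fintype.card F - 2, by
    have := Fintype.one_lt_card (α := F); omega⟩
  rw [hm] at hN ⊢
  rw [show m + 2 - 1 = m + 1 by omega] at hN
  set q := m + 2 with hq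
  set n := 2 * k + 1 with hn'
  have e1 : q ^ (n + 4) = q ^ (n + 3) + q ^ (n + 2) + q ^ (n + 2) * (m * m + 3 * m + 1) := by
    rw [hq]; ring
  have e2 : q ^ (n + 2) * (m * m + 3 * m + 1) + q ^ (n + 1) =
      (m + 1) * (q ^ (n + 1) * ((m + 1) * (m + 3))) := by
    rw [hq]; ring
  have e3 : q ^ (n + 3) = q ^ (n + 1) * ((m + 1) * (m + 3)) + q ^ (n + 1) := by
    rw [hq]; ring
  have e4 : (m + 1) * S = (m + 1) * (q ^ (n + 1) * ((m + 1) * (m + 3))) := by
    rw [← e2, hN]; omega
  have e5 : S = q ^ (n + 1) * ((m + 1) * (m + 3)) :=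
    Nat.eq_of_mul_eq_mul_left (Nat.succ_pos m) e4
  rw [e5]
  omega

end Groth.Agent.Helper6.ResCount
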