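import Groth.Agent.Lib.Helper6.ResCount.Cases

set_option linter.unusedSectionVars false
set_option linter.unusedVariables false
set_option linter.unusedSimpArgs false
set_option autoImplicit false
set_option linter.style.haveILetI false
set_option maxHeartbeats 400000

/-!
# Counting pairs of binary forms with non-vanishing resultant: the total count
-/

namespace Groth.Agent.Helper6.ResCount

open Polynomial

variable {F : Type*} [Field F] [Fintype F] [DecidableEq F]

omit [Fintype F] [DecidableEq F] in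
lemma pv2_eq (g : Fin 2 → F) : pv 2 g = C (g 0) + C (g 1) * X := by
  unfold pv
  rw [Fin.sum_univ_two]
  simp

omit [Fintype F] [DecidableEq F] in
lemma res_lin_of_ne (f : Fin 3 → F) (g : Fin 2 → F) (h1 : g 1 ≠ 0) :
    resultant (pv 3 f) (pv 2 g) 2 1 = g 1 ^ 2 * ((-1) ^ 2 * (pv 3 f).eval (-(g 0 / g 1))) := by
  have hg : pv 2 g = C (g 1) * (X + C (g 0 / g 1)) := by
    rw [pv2_eq, mul_add, ← C_mul, mul_div_cancel₀ _ h1]
    ring
  rw [hg, resultant_C_mul_right, resultant_X_add_C_right _ 2 _ (pv3_natDegree_le f)]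

omit [Fintype F] [DecidableEq F] in
lemma res_lin_of_eq (f : Fin 3 → F) (g : Fin 2 → F) (h1 : g 1 = 0) :
    resultant (pv 3 f) (pv 2 g) 2 1 = f 2 * g 0 ^ 2 := by
  have hg : pv 2 g = C (g 0) := by
    rw [pv2_eq, h1]; simp
  rw [hg, resultant_C_right, pv3_coeff_two, pow_one]

/-- the number of quadrics with non-vanishing resultant against a fixed linear form -/
lemma sum_quadrics (g : Fin 2 → F) :
    (∑ f : Fin 3 → F, if resultant (pv 3 f) (pv 2 g) 2 1 ≠ 0 then 1 else 0) =
      if g 1 ≠ 0 ∨ g 0 ≠ 0 then (Fintype.card F - 1) * Fintype.card F ^ 2 else 0 := by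
  by_cases h1 : g 1 = 0
  · by_cases h0 : g 0 = 0
    · rw [if_neg (by simp [h1, h0])]
      refine Finset.sum_eq_zero fun f _ => ?_
      rw [res_lin_of_eq f g h1, h0]
      simp
    · rw [if_pos (Or.inr h0), ← sum_last_ne 2]
      refine Finset.sum_congr rfl fun f _ => ?_
      rw [res_lin_of_eq f g h1]
      have : g 0 ^ 2 ≠ 0 := pow_ne_zero _ h0
      have e : (Fin.last 2 : Fin 3) = 2 := rfl
      rw [e]
      simp only [ne_eq, mul_eq_zero, this, or_false]
  · rw [if_pos (Or.inl h1), ← sum_eval_ne 2 (-(g 0 / g 1))]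
    refine Finset.sum_congr rfl fun f _ => ?_
    rw [res_lin_of_ne f g h1]
    have : g 1 ^ 2 ≠ 0 := pow_ne_zero _ h1
    simp only [ne_eq, mul_eq_zero, this, false_or, even_two, Even.neg_pow, one_pow, one_ne_zero]

lemma sum_cnt_one :
    (∑ f : Fin 3 → F, cnt 1 f) =
      (Fintype.card F - 1) * Fintype.card F ^ 2 * ((Fintype.card F - 1) * (Fintype.card F + 1))
      := by
  unfold cnt
  rw [Finset.sum_comm]
  rw [Finset.sum_congr rfl fun g _ => sum_quadrics g]
  rw [sum_snoc]
  set A := (Fintype.card F - 1) * Fintype.card F ^ 2 with hA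
  have key : ∀ t : F, (∑ g' : Fin 1 → F,
      if (Fin.snoc (α := fun _ => F) g' t : Fin 2 → F) 1 ≠ 0 ∨
        (Fin.snoc (α := fun _ => F) g' t : Fin 2 → F) 0 ≠ 0 then A else 0) =
      if t ≠ 0 then Fintype.card F * A else (Fintype.card F - 1) * A := by
    intro t
    have e1 : ∀ g' : Fin 1 → F, (Fin.snoc (α := fun _ => F) g' t : Fin 2 → F) 1 = t := by
      intro g'
      exact Fin.snoc_last (α := fun _ => F) t g'
    have e0 : ∀ g' : Fin 1 → F, (Fin.snoc (α := fun _ => F) g' t : Fin 2 → F) 0 = g' 0 := by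
      intro g'
      exact Fin.snoc_castSucc (α := fun _ => F) t g' 0
    simp only [e1, e0]
    by_cases ht : t = 0
    · rw [if_neg (not_not.mpr ht)]
      have : ∀ g' : Fin 1 → F, (t ≠ 0 ∨ g' 0 ≠ 0) ↔ g' (Fin.last 0) ≠ 0 := by
        intro g'
        constructor
        · rintro (h | h)
          · exact absurd ht h
          · exact h
        · exact fun h => Or.inr h
      simp only [this]
      rw [← Finset.sum_filter, Finset.sum_const, smul_eq_mul, Finset.card_filter, sum_last_ne 0]
      simp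
    · rw [if_pos ht]
      have : ∀ g' : Fin 1 → F, (t ≠ 0 ∨ g' 0 ≠ 0) ↔ True := fun g' => iff_true_intro (Or.inl ht)
      simp only [this, if_true]
      rw [Finset.sum_const, Finset.card_univ, card_fun, smul_eq_mul, pow_one]
  rw [Finset.sum_congr rfl fun t _ => key t, Finset.sum_ite, Finset.sum_const, Finset.sum_const,
    Finset.filter_ne', Finset.card_erase_of_mem (Finset.mem_univ _), Finset.card_univ]
  have : (Finset.univ.filter fun x : F => ¬ x ≠ 0) = {0} := by
    ext x; simp
  rw [this, Finset.card_singleton, smul_eq_mul, smul_eq_mul]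
  obtain ⟨m, hm⟩ : ∃ m, Fintype.card F = m + 1 := ⟨Fintype.card F - 1, by
    have := Fintype.card_pos (α := F); omega⟩
  rw [hm, Nat.add_sub_cancel]
  ring

/-- the total count, as a double sum -/
lemma sum_cnt (n : ℕ) :
    (∑ f : Fin 3 → F, cnt (n + 1) f) =
      Fintype.card F ^ n *
        ((Fintype.card F - 1) * Fintype.card F ^ 2 *
          ((Fintype.card F - 1) * (Fintype.card F + 1))) := by
  rw [Finset.sum_congr rfl fun f _ => cnt_succ f n, ← Finset.mul_sum, sum_cnt_one]

omit [DecidableEq F] in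
/-- the arithmetic identity -/
lemma arith (n : ℕ) :
    Fintype.card F ^ n *
        ((Fintype.card F - 1) * Fintype.card F ^ 2 *
          ((Fintype.card F - 1) * (Fintype.card F + 1))) =
      Fintype.card F ^ (n + 1 + 4) - Fintype.card F ^ (n + 1 + 3) - Fintype.card F ^ (n + 1 + 2)
        + Fintype.card F ^ (n + 1 + 1) := by
  obtain ⟨m, hm⟩ : ∃ m, Fintype.card F = m + 2 := ⟨Fintype.card F - 2, by
    have := Fintype.one_lt_card (α := F); omega⟩
  rw [hm, show m + 2 - 1 = m + 1 by omega]
  set q := m + 2 with hq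
  have h1 : (q ^ n * ((m + 1) * q ^ 2 * ((m + 1) * (q + 1)))) + q ^ (n + 1 + 3) + q ^ (n + 1 + 2)
      = q ^ (n + 1 + 4) + q ^ (n + 1 + 1) := by
    rw [hq]; ring
  have h2 : q ^ (n + 1 + 3) + q ^ (n + 1 + 2) ≤ q ^ (n + 1 + 4) := by
    have : q ^ (n + 1 + 4) = q ^ (n + 1 + 3) + q ^ (n + 1 + 2) + q ^ (n + 1 + 2) * (m * m + 3 * m + 1)
        := by
      rw [hq]; ring
    omega
  omega

end Groth.Agent.Helper6.ResCount
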